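import Mathlib

/-!
The heart of a t-structure: abelianness and short exact sequences versus triangles.
-/

universe v' u' v u
open CategoryTheory CategoryTheory.Limits CategoryTheory.Pretriangulated
open CategoryTheory.Triangulated ZeroObject

namespace Groth.Agent.HeartLib

variable {C : Type u} [Category.{v} C] [Preadditive C] [HasZeroObject C] [HasShift C ℤ]
  [∀ n : ℤ, (shiftFunctor C n).Additive] [Pretriangulated C] [IsTriangulated C] (t : TStructure C)
  {H : Type u'} [Category.{v'} H] [Preadditive H] [t.Heart H]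

theorem hom_neg ⦃X Y : H⦄ ⦃n : ℤ⦄ (f : t.ιHeart.obj X ⟶ (t.ιHeart.obj Y)⟦n⟧) (hn : n < 0) :
    f = 0 := by
  have := t.isGE_shift (t.ιHeart.obj Y) 0 n (-n) (by omega)
  exact t.zero f 0 (-n) (by omega)

theorem exists_obj_of_heart {Z : C} (h₁ : t.IsLE Z 0) (h₂ : t.IsGE Z 0) :
    ∃ Z' : H, Nonempty (t.ιHeart.obj Z' ≅ Z) := by
  have : (t.ιHeart (H := H)).essImage Z := by
    rw [t.essImage_ιHeart H]
    exact (t.mem_heart_iff Z).2 ⟨h₁, h₂⟩
  exact this

include t in
theorem hasFiniteProducts : HasFiniteProducts H := by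
  obtain ⟨Z, ⟨e⟩⟩ := exists_obj_of_heart (H := H) t (Z := (0 : C))
    (t.isLE_of_isZero (isZero_zero C) 0) (t.isGE_of_isZero (isZero_zero C) 0)
  have hZ : IsZero Z := by
    rw [IsZero.iff_id_eq_zero]
    apply t.ιHeart.map_injective
    exact ((isZero_zero C).of_iso e).eq_of_src _ _
  have : HasZeroObject H := ⟨Z, hZ⟩
  have : HasBinaryBiproducts H := ⟨fun X Y => by
    have hT := binaryBiproductTriangle_distinguished (t.ιHeart.obj X) (t.ιHeart.obj Y)
    obtain ⟨W, ⟨e⟩⟩ := exists_obj_of_heart (H := H) t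
      (t.isLE₂ _ hT 0 (inferInstanceAs (t.IsLE (t.ιHeart.obj X) 0))
        (inferInstanceAs (t.IsLE (t.ιHeart.obj Y) 0)))
      (t.isGE₂ _ hT 0 (inferInstanceAs (t.IsGE (t.ιHeart.obj X) 0))
        (inferInstanceAs (t.IsGE (t.ιHeart.obj Y) 0)))
    let e : t.ιHeart.obj W ≅ t.ιHeart.obj X ⊞ t.ιHeart.obj Y := e
    exact HasBinaryBiproduct.mk
      { bicone :=
          { pt := W
            fst := t.ιHeart.preimage (e.hom ≫ biprod.fst)
            snd := t.ιHeart.preimage (e.hom ≫ biprod.snd)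
            inl := t.ιHeart.preimage (biprod.inl ≫ e.inv)
            inr := t.ιHeart.preimage (biprod.inr ≫ e.inv)
            inl_fst := t.ιHeart.map_injective (by simp)
            inl_snd := t.ιHeart.map_injective (by simp)
            inr_fst := t.ιHeart.map_injective (by simp)
            inr_snd := t.ιHeart.map_injective (by simp) }
        isBilimit := isBinaryBilimitOfTotal _ (t.ιHeart.map_injective (by
          simp only [Functor.map_add, Functor.map_comp, Functor.map_preimage, Category.assoc,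
            Functor.map_id]
          rw [← Preadditive.comp_add, ← Category.assoc biprod.fst, ← Category.assoc biprod.snd,
            ← Preadditive.add_comp, biprod.total, Category.id_comp, Iso.hom_inv_id, CategoryTheory.Functor.map_id])) }⟩
  have : HasTerminal H := hZ.isTerminal.hasTerminal
  exact hasFiniteProducts_of_has_binary_and_terminal

theorem admissible : AbelianSubcategory.admissibleMorphism (t.ιHeart (H := H)) = ⊤ := by
  refine MorphismProperty.ext _ _ (fun X₁ X₂ f₁ => ⟨fun _ => trivial, fun _ => ?_⟩)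
  intro X₃ f₂ f₃ hT
  have hX1 := t.isLE_shift (t.ιHeart.obj X₁) 0 1 (-1) (by omega)
  have hX1' := t.isGE_shift (t.ιHeart.obj X₁) 0 1 (-1) (by omega)
  have : t.IsLE X₃ 0 := t.isLE₂ _ (rot_of_distTriang _ hT) 0
    (inferInstanceAs (t.IsLE (t.ιHeart.obj X₂) 0)) (t.isLE_of_le ((t.ιHeart.obj X₁)⟦(1:ℤ)⟧) (-1) 0)
  have : t.IsGE X₃ (-1) := t.isGE₂ _ (rot_of_distTriang _ hT) (-1)
    (t.isGE_of_ge (t.ιHeart.obj X₂) (-1) 0) hX1'
  have hT' := t.triangleLEGE_distinguished (-1) 0 (by omega) X₃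
  let A := (t.truncLE (-1)).obj X₃
  have : t.IsLE A (-1) := inferInstanceAs (t.IsLE ((t.truncLE (-1)).obj X₃) (-1))
  have : t.IsGE A (-1) := inferInstanceAs (t.IsGE ((t.truncLE (-1)).obj X₃) (-1))
  obtain ⟨K, ⟨eK⟩⟩ := exists_obj_of_heart (H := H) t (Z := A⟦(-1 : ℤ)⟧)
    (t.isLE_shift A (-1) (-1) 0 (by omega)) (t.isGE_shift A (-1) (-1) 0 (by omega))
  let B := (t.truncGE 0).obj X₃
  obtain ⟨Q, ⟨eQ⟩⟩ := exists_obj_of_heart (H := H) t (Z := B)
    (inferInstanceAs (t.IsLE ((t.truncGE 0).obj X₃) 0))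
    (inferInstanceAs (t.IsGE ((t.truncGE 0).obj X₃) 0))
  let eA : (t.ιHeart.obj K)⟦(1 : ℤ)⟧ ≅ A := (shiftFunctor C (1 : ℤ)).mapIso eK ≪≫
    (shiftFunctorCompIsoId C (-1 : ℤ) 1 (by omega)).app A
  refine ⟨K, Q, eA.hom ≫ (t.truncLEι (-1)).app X₃, (t.truncGEπ 0).app X₃ ≫ eQ.inv,
    eQ.hom ≫ (t.truncGEδLE (-1) 0 (by omega)).app X₃ ≫ eA.inv⟦(1 : ℤ)⟧', ?_⟩
  refine isomorphic_distinguished _ hT' _ ?_
  exact Triangle.isoMk _ _ eA (Iso.refl _) eQ (Category.comp_id _)
    (by show (_ ≫ eQ.inv) ≫ eQ.hom = 𝟙 _ ≫ _; simp)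
    (by
      show (eQ.hom ≫ _ ≫ eA.inv⟦(1 : ℤ)⟧') ≫ eA.hom⟦(1 : ℤ)⟧' = eQ.hom ≫ _
      simp [← Functor.map_comp])

/-- The abelian structure. -/
@[instance_reducible]
noncomputable def abelian : Abelian H :=
  have := hasFiniteProducts (H := H) t
  AbelianSubcategory.abelian t.ιHeart (hom_neg t) (admissible t)

end Groth.Agent.HeartLib
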